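import Mathlib

/-! Helper8: a criterion for a map of rings to induce an isomorphism on adic completions. -/

set_option autoImplicit false

namespace Groth.Agent.H8.SmCompl

variable {R P S : Type*} [CommRing R] [CommRing P] [CommRing S] [Algebra R P] [Algebra R S]

/-- the induced maps on truncations -/
noncomputable def truncMap (J : Ideal P) (I : Ideal S) (φ : P →ₐ[R] S)
    (hJI : ∀ n, J ^ n ≤ (I ^ n).comap φ) (n : ℕ) : P ⧸ J ^ n →ₐ[R] S ⧸ I ^ n :=
  Ideal.quotientMapₐ (I ^ n) φ (hJI n)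

lemma truncMap_mk (J : Ideal P) (I : Ideal S) (φ : P →ₐ[R] S)
    (hJI : ∀ n, J ^ n ≤ (I ^ n).comap φ) (n : ℕ) (p : P) :
    truncMap J I φ hJI n (Ideal.Quotient.mk _ p) = Ideal.Quotient.mk _ (φ p) := rfl

lemma truncMap_compat (J : Ideal P) (I : Ideal S) (φ : P →ₐ[R] S)
    (hJI : ∀ n, J ^ n ≤ (I ^ n).comap φ) {m n : ℕ} (hle : m ≤ n) :
    (Ideal.Quotient.factorₐ R (Ideal.pow_le_pow_right hle)).comp
        ((truncMap J I φ hJI n).comp ((AdicCompletion.evalₐ J n).restrictScalars R)) =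
      (truncMap J I φ hJI m).comp ((AdicCompletion.evalₐ J m).restrictScalars R) := by
  ext x
  induction x using AdicCompletion.induction_on with
  | h x =>
  simp only [AlgHom.coe_comp, AlgHom.coe_restrictScalars', Function.comp_apply,
    AdicCompletion.evalₐ_mk, truncMap_mk]
  rw [Ideal.Quotient.factorₐ_apply_mk, Ideal.Quotient.eq, ← map_sub, ← Ideal.mem_comap]
  apply hJI m
  rw [← Ideal.Quotient.eq]
  exact AdicCompletion.Ideal.mk_eq_mk J hle x

/-- the induced map on completions -/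
noncomputable def complMap (J : Ideal P) (I : Ideal S) (φ : P →ₐ[R] S)
    (hJI : ∀ n, J ^ n ≤ (I ^ n).comap φ) : AdicCompletion J P →ₐ[R] AdicCompletion I S :=
  AdicCompletion.liftAlgHom I
    (fun n => (truncMap J I φ hJI n).comp ((AdicCompletion.evalₐ J n).restrictScalars R))
    (fun hle => truncMap_compat J I φ hJI hle)

lemma evalₐ_complMap (J : Ideal P) (I : Ideal S) (φ : P →ₐ[R] S)
    (hJI : ∀ n, J ^ n ≤ (I ^ n).comap φ) (n : ℕ) (x : AdicCompletion J P) :
    AdicCompletion.evalₐ I n (complMap J I φ hJI x) =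
      truncMap J I φ hJI n (AdicCompletion.evalₐ J n x) := by
  unfold complMap
  rw [AdicCompletion.evalₐ_liftAlgHom I _ (fun hle => truncMap_compat J I φ hJI hle)]
  rfl

theorem complMap_bijective (J : Ideal P) (I : Ideal S) (φ : P →ₐ[R] S)
    (hJI : ∀ n, J ^ n ≤ (I ^ n).comap φ)
    (hsurj : ∀ (n : ℕ) (s : S), ∃ p : P, s - φ p ∈ I ^ n)
    (hinj : ∀ (n : ℕ) (p : P), φ p ∈ I ^ n → p ∈ J ^ n) :
    Function.Bijective (complMap J I φ hJI) := by
  constructor
  · rw [injective_iff_map_eq_zero]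
    intro x hx
    refine AdicCompletion.ext_evalₐ fun n => ?_
    have h1 := evalₐ_complMap J I φ hJI n x
    rw [hx, map_zero] at h1
    obtain ⟨p, hp⟩ := Ideal.Quotient.mk_surjective (AdicCompletion.evalₐ J n x)
    rw [← hp, truncMap_mk] at h1
    rw [map_zero, ← hp, Ideal.Quotient.eq_zero_iff_mem]
    exact hinj n p ((Ideal.Quotient.eq_zero_iff_mem).mp h1.symm)
  · intro y
    have hch : ∀ n : ℕ, ∃ p : P, Ideal.Quotient.mk (I ^ n) (φ p) = AdicCompletion.evalₐ I n y := by
      intro n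
      obtain ⟨s, hs⟩ := Ideal.Quotient.mk_surjective (AdicCompletion.evalₐ I n y)
      obtain ⟨p, hp⟩ := hsurj n s
      refine ⟨p, ?_⟩
      rw [← hs, eq_comm, Ideal.Quotient.eq]
      exact hp
    choose p hp using hch
    have hcau : ∀ n, p n ≡ p (n + 1) [SMOD (J ^ n • ⊤ : Submodule P P)] := by
      intro n
      rw [SModEq.sub_mem, smul_eq_mul, Ideal.mul_top]
      apply hinj
      rw [map_sub, ← Ideal.Quotient.eq]
      have h1 : Ideal.Quotient.factor (Ideal.pow_le_pow_right (Nat.le_succ n))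
          (Ideal.Quotient.mk (I ^ (n + 1)) (φ (p (n + 1)))) = Ideal.Quotient.mk (I ^ n) (φ (p n)) := by
        rw [hp, hp]
        induction y using AdicCompletion.induction_on with
        | h y =>
        rw [AdicCompletion.evalₐ_mk, AdicCompletion.evalₐ_mk, Ideal.Quotient.factor_mk]
        exact AdicCompletion.Ideal.mk_eq_mk I (Nat.le_succ n) y
      rw [Ideal.Quotient.factor_mk] at h1
      exact h1.symm
    refine ⟨AdicCompletion.mk J P (AdicCompletion.AdicCauchySequence.mk J P p hcau), ?_⟩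
    refine AdicCompletion.ext_evalₐ fun n => ?_
    rw [evalₐ_complMap, AdicCompletion.evalₐ_mk, truncMap_mk, ← hp]
    rfl

theorem nonempty_algEquiv (J : Ideal P) (I : Ideal S) (φ : P →ₐ[R] S)
    (hJI : ∀ n, J ^ n ≤ (I ^ n).comap φ)
    (hsurj : ∀ (n : ℕ) (s : S), ∃ p : P, s - φ p ∈ I ^ n)
    (hinj : ∀ (n : ℕ) (p : P), φ p ∈ I ^ n → p ∈ J ^ n) :
    Nonempty (AdicCompletion J P ≃ₐ[R] AdicCompletion I S) :=
  ⟨AlgEquiv.ofBijective (complMap J I φ hJI) (complMap_bijective J I φ hJI hsurj hinj)⟩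

end Groth.Agent.H8.SmCompl
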