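import Mathlib
import Groth.Agent.Lib.Helper8.SmCompl.ComplIso

/-! Helper8: the completion of a smooth algebra along a section with free conormal module is a
power series ring. -/

set_option autoImplicit false
universe u

namespace Groth.Agent.H8.SmCompl

open MvPolynomial

section Abstract

variable {R P S : Type*} [CommRing R] [CommRing P] [CommRing S] [Algebra R P] [Algebra R S]

/-- graded unipotence argument: if `S` is formally smooth over `R`, and `φ : P → S` is injective
modulo squares and surjective modulo `I ^ n`, then it is injective modulo `I ^ n`. -/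
theorem mem_pow_of_map_mem [Algebra.FormallySmooth R S] (J : Ideal P) (I : Ideal S)
    (φ : P →ₐ[R] S) (hJI : ∀ n, J ^ n ≤ (I ^ n).comap φ) (n : ℕ) (hn2 : 2 ≤ n)
    (h1 : ∀ q, φ q ∈ I → q ∈ J) (h2 : ∀ q, φ q ∈ I ^ 2 → q ∈ J ^ 2)
    (hsurj : ∀ s, ∃ q, s - φ q ∈ I ^ n) (p : P) (h : φ p ∈ I ^ n) : p ∈ J ^ n := by
  let mkJ : P →ₐ[R] (P ⧸ J ^ n) := Ideal.Quotient.mkₐ R (J ^ n)
  have hmkJ : Function.Surjective mkJ := Ideal.Quotient.mkₐ_surjective R _
  let g := truncMap J I φ hJI n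
  have hgmk : ∀ q, g (mkJ q) = Ideal.Quotient.mk (I ^ n) (φ q) := fun q => rfl
  have hg : Function.Surjective g := by
    intro y
    obtain ⟨s, rfl⟩ := Ideal.Quotient.mk_surjective y
    obtain ⟨q, hq⟩ := hsurj s
    refine ⟨mkJ q, ?_⟩
    rw [hgmk, eq_comm, Ideal.Quotient.eq]
    exact hq
  have hker : ∀ b, g b = 0 → ∃ q ∈ J ^ 2, mkJ q = b := by
    intro b hb
    obtain ⟨q, rfl⟩ := hmkJ b
    rw [hgmk, Ideal.Quotient.eq_zero_iff_mem] at hb
    exact ⟨q, h2 q (Ideal.pow_le_pow_right hn2 hb), rfl⟩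
  have hmapJ : (J.map mkJ) ^ n = ⊥ := by
    rw [← Ideal.map_pow]
    exact Ideal.map_quotient_self _
  have hnil : IsNilpotent (RingHom.ker (g : (P ⧸ J ^ n) →+* (S ⧸ I ^ n))) := by
    refine ⟨n, ?_⟩
    rw [Ideal.zero_eq_bot, ← le_bot_iff, ← hmapJ]
    refine Ideal.pow_right_mono ?_ n
    intro b hb
    obtain ⟨q, hq, rfl⟩ := hker b hb
    exact Ideal.mem_map_of_mem _ (Ideal.pow_le_self two_ne_zero hq)
  let ψ : S →ₐ[R] (P ⧸ J ^ n) :=
    Algebra.FormallySmooth.liftOfSurjective (Ideal.Quotient.mkₐ R (I ^ n)) g hg hnil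
  have hψ : ∀ s, g (ψ s) = Ideal.Quotient.mk (I ^ n) s := fun s =>
    Algebra.FormallySmooth.liftOfSurjective_apply (Ideal.Quotient.mkₐ R (I ^ n)) g hg hnil s
  have ha : ∀ q, ∃ r ∈ J ^ 2, ψ (φ q) - mkJ q = mkJ r := by
    intro q
    obtain ⟨r, hr, hr'⟩ := hker (ψ (φ q) - mkJ q) (by rw [map_sub, hψ, hgmk, sub_self])
    exact ⟨r, hr, hr'.symm⟩
  have hc : ∀ k, ∀ q ∈ J ^ k, ψ (φ q) - mkJ q ∈ (J ^ (k + 1)).map mkJ := by
    intro k
    induction k with
    | zero =>
      intro q _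
      obtain ⟨r, hr, hr'⟩ := ha q
      rw [hr']
      exact Ideal.mem_map_of_mem _ (Ideal.pow_le_pow_right (by norm_num) hr)
    | succ k ih =>
      intro q hq
      rw [pow_succ] at hq
      refine Submodule.mul_induction_on hq ?_ ?_
      · intro a ha' b hb
        have h1 : ψ (φ (a * b)) - mkJ (a * b) =
            (ψ (φ a) - mkJ a) * ψ (φ b) + mkJ a * (ψ (φ b) - mkJ b) := by
          simp only [map_mul]; ring
        rw [h1]
        refine Ideal.add_mem _ ?_ ?_
        · have h2 : ψ (φ b) ∈ J.map mkJ := by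
            obtain ⟨r, hr, hr'⟩ := ha b
            have : ψ (φ b) = mkJ b + mkJ r := by rw [← hr']; ring
            rw [this]
            exact Ideal.add_mem _ (Ideal.mem_map_of_mem _ hb)
              (Ideal.mem_map_of_mem _ (Ideal.pow_le_self two_ne_zero hr))
          rw [pow_succ (J) (k + 1), Ideal.map_mul]
          exact Ideal.mul_mem_mul (ih a ha') h2
        · obtain ⟨r, hr, hr'⟩ := ha b
          rw [hr']
          have h3 : J ^ (k + 1 + 1) = J ^ k * J ^ 2 := by rw [← pow_add]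
          rw [h3, Ideal.map_mul]
          exact Ideal.mul_mem_mul (Ideal.mem_map_of_mem _ ha') (Ideal.mem_map_of_mem _ hr)
      · intro x y hx hy
        have : ψ (φ (x + y)) - mkJ (x + y) = (ψ (φ x) - mkJ x) + (ψ (φ y) - mkJ y) := by
          simp only [map_add]; ring
        rw [this]
        exact Ideal.add_mem _ hx hy
  have hψI : I ≤ (J.map mkJ).comap ψ := by
    intro s hs
    rw [Ideal.mem_comap]
    obtain ⟨q, hq⟩ := hmkJ (ψ s)
    have h1' : Ideal.Quotient.mk (I ^ n) (φ q) = Ideal.Quotient.mk (I ^ n) s := by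
      rw [← hgmk, hq, hψ]
    rw [Ideal.Quotient.eq] at h1'
    have h2' : φ q ∈ I := by
      have := Ideal.add_mem _ (Ideal.pow_le_self (by omega) h1') hs
      simpa using this
    rw [← hq]
    exact Ideal.mem_map_of_mem _ (h1 q h2')
  have hψ0 : ψ (φ p) = 0 := by
    have h1' : I ^ n ≤ ((J.map mkJ) ^ n).comap ψ :=
      le_trans (Ideal.pow_right_mono hψI n) (Ideal.le_comap_pow _ n)
    have h2' := h1' h
    rw [hmapJ] at h2'
    exact h2'
  have hfin : ∀ k, k ≤ n → p ∈ J ^ k := by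
    intro k
    induction k with
    | zero => intro _; simp
    | succ k ih =>
      intro hk
      have h1' := hc k p (ih (by omega))
      rw [hψ0, zero_sub, neg_mem_iff] at h1'
      obtain ⟨q, hq, hq'⟩ := (Ideal.mem_map_iff_of_surjective mkJ hmkJ).mp h1'
      have h2' : p - q ∈ J ^ n := by
        rw [← Ideal.Quotient.eq]
        exact hq'.symm
      have h3 := Ideal.add_mem _ (Ideal.pow_le_pow_right hk h2') hq
      simpa using h3
  exact hfin n le_rfl

end Abstract

section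

variable {R S : Type u} [CommRing R] [CommRing S] [Algebra R S] (σ : S →ₐ[R] R) {d : ℕ}

/-- the kernel of the retraction -/
abbrev kerI : Ideal S := RingHom.ker σ.toRingHom

lemma mem_I_iff (s : S) : s ∈ kerI σ ↔ σ s = 0 := Iff.rfl

lemma sub_algebraMap_mem (s : S) : s - algebraMap R S (σ s) ∈ kerI σ := by
  rw [mem_I_iff, map_sub, AlgHom.commutes, Algebra.algebraMap_self_apply, sub_self]

variable (f : Fin d → S) (hf : ∀ i, f i ∈ kerI σ)

include hf in
lemma sigma_aeval (p : MvPolynomial (Fin d) R) : σ (aeval f p) = constantCoeff p := by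
  induction p using MvPolynomial.induction_on with
  | C a => simp
  | add p q hp hq => simp [hp, hq]
  | mul_X p i hp => simp [hp, (mem_I_iff σ _).mp (hf i)]

lemma mem_J_iff (p : MvPolynomial (Fin d) R) :
    p ∈ idealOfVars (Fin d) R ↔ constantCoeff p = 0 := by
  have := mem_pow_idealOfVars_iff' (σ := Fin d) (R := R) 1 p
  rw [pow_one] at this
  rw [this]
  constructor
  · intro h
    exact h 0 (by simp)
  · intro h x hx
    have : x = 0 := by
      rw [Nat.lt_one_iff] at hx
      exact (Finsupp.degree_eq_zero_iff x).mp hx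
    rw [this]
    exact h

include hf in
lemma J_le_comap : idealOfVars (Fin d) R ≤ (kerI σ).comap (aeval f : MvPolynomial (Fin d) R →ₐ[R] S) := by
  rw [Ideal.span_le]
  rintro _ ⟨i, rfl⟩
  simpa using hf i

include hf in
lemma Jpow_le_comap (n : ℕ) :
    idealOfVars (Fin d) R ^ n ≤ ((kerI σ) ^ n).comap (aeval f : MvPolynomial (Fin d) R →ₐ[R] S) := by
  refine le_trans (Ideal.pow_right_mono (J_le_comap σ f hf) n) ?_
  exact Ideal.le_comap_pow _ n

include hf in
lemma mem_J_of_aeval_mem (p : MvPolynomial (Fin d) R) (h : aeval f p ∈ kerI σ) :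
    p ∈ idealOfVars (Fin d) R := by
  rw [mem_J_iff, ← sigma_aeval σ f hf]
  exact h

end

section

variable {R S : Type u} [CommRing R] [CommRing S] [Algebra R S] (σ : S →ₐ[R] R) {d : ℕ}
  (e : (kerI σ).Cotangent ≃ₗ[R] (Fin d → R))
  (f : Fin d → S) (hf : ∀ i, f i ∈ kerI σ)
  (hfe : ∀ i, (kerI σ).toCotangent ⟨f i, hf i⟩ = e.symm (Pi.single i 1))

include hfe in
lemma toCotangent_sum (c : Fin d → R) :
    (kerI σ).toCotangent (∑ i, c i • (⟨f i, hf i⟩ : kerI σ)) = e.symm c := by
  rw [map_sum]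
  have h1 : ∀ i, (kerI σ).toCotangent (c i • (⟨f i, hf i⟩ : kerI σ)) =
      c i • e.symm (Pi.single i 1) := by
    intro i
    rw [LinearMap.map_smul_of_tower, hfe]
  rw [Finset.sum_congr rfl (fun i _ => h1 i)]
  have h2 : c = ∑ i, c i • (Pi.single i 1 : Fin d → R) := by
    ext j
    simp [Finset.sum_apply, Pi.single_apply]
  conv_rhs => rw [h2]
  rw [map_sum]
  simp_rw [map_smul]

lemma coe_sum_smul (c : Fin d → R) :
    ((∑ i, c i • (⟨f i, hf i⟩ : kerI σ) : kerI σ) : S) = ∑ i, c i • f i := by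
  rw [Submodule.coe_sum]
  rfl

include hfe in
lemma exists_lin_approx (s : S) (hs : s ∈ kerI σ) :
    ∃ c : Fin d → R, s - ∑ i, c i • f i ∈ (kerI σ) ^ 2 := by
  refine ⟨e ((kerI σ).toCotangent ⟨s, hs⟩), ?_⟩
  have h1 := toCotangent_sum σ e f hf hfe (e ((kerI σ).toCotangent ⟨s, hs⟩))
  rw [LinearEquiv.symm_apply_apply] at h1
  have h2 := (Ideal.toCotangent_eq (I := kerI σ)).mp h1.symm
  rw [coe_sum_smul] at h2
  exact h2

include hfe in
lemma eq_zero_of_sum_mem_sq (c : Fin d → R) (h : ∑ i, c i • f i ∈ (kerI σ) ^ 2) : c = 0 := by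
  have h1 := toCotangent_sum σ e f hf hfe c
  have h2 : (kerI σ).toCotangent (∑ i, c i • (⟨f i, hf i⟩ : kerI σ)) = 0 := by
    rw [Ideal.toCotangent_eq_zero, coe_sum_smul]
    exact h
  rw [h2] at h1
  have := congrArg e h1
  simpa using this.symm

lemma aeval_lin (c : Fin d → R) :
    aeval f (∑ i, C (c i) * X i : MvPolynomial (Fin d) R) = ∑ i, c i • f i := by
  simp [Algebra.smul_def]

lemma lin_mem_J (c : Fin d → R) :
    (∑ i, C (c i) * X i : MvPolynomial (Fin d) R) ∈ idealOfVars (Fin d) R := by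
  refine Ideal.sum_mem _ fun i _ => Ideal.mul_mem_left _ _ (Ideal.subset_span ⟨i, rfl⟩)

lemma exists_repr (p : MvPolynomial (Fin d) R) (hp : p ∈ idealOfVars (Fin d) R) :
    ∃ c : Fin d → R, p - ∑ i, C (c i) * X i ∈ idealOfVars (Fin d) R ^ 2 := by
  obtain ⟨q, hq⟩ := (Submodule.mem_span_range_iff_exists_fun _).mp hp
  refine ⟨fun i => constantCoeff (q i), ?_⟩
  rw [← hq, ← Finset.sum_sub_distrib]
  refine Ideal.sum_mem _ fun i _ => ?_
  rw [smul_eq_mul, ← sub_mul, pow_two]
  refine Ideal.mul_mem_mul ?_ (Ideal.subset_span ⟨i, rfl⟩)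
  rw [mem_J_iff]
  simp

include hfe in
lemma mem_Jsq_of_aeval_mem (p : MvPolynomial (Fin d) R)
    (h : aeval f p ∈ (kerI σ) ^ 2) : p ∈ idealOfVars (Fin d) R ^ 2 := by
  have hp : p ∈ idealOfVars (Fin d) R :=
    mem_J_of_aeval_mem σ f hf p (Ideal.pow_le_self two_ne_zero h)
  obtain ⟨c, hc⟩ := exists_repr p hp
  have h1 : aeval f (p - ∑ i, C (c i) * X i) ∈ (kerI σ) ^ 2 := Jpow_le_comap σ f hf 2 hc
  rw [map_sub, aeval_lin] at h1
  have h2 : ∑ i, c i • f i ∈ (kerI σ) ^ 2 := by
    have := Ideal.sub_mem _ h h1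
    simpa using this
  have h3 := eq_zero_of_sum_mem_sq σ e f hf hfe c h2
  subst h3
  simpa using hc

include hfe in
lemma exists_approx_pow (k : ℕ) : ∀ s ∈ (kerI σ) ^ k,
    ∃ p ∈ idealOfVars (Fin d) R ^ k, s - aeval f p ∈ (kerI σ) ^ (k + 1) := by
  induction k with
  | zero =>
    intro s _
    refine ⟨C (σ s), by simp, ?_⟩
    rw [zero_add, pow_one, aeval_C]
    exact sub_algebraMap_mem σ s
  | succ k ih =>
    intro s hs
    rw [pow_succ] at hs
    refine Submodule.mul_induction_on hs ?_ ?_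
    · intro a ha b hb
      obtain ⟨pa, hpa, hpa'⟩ := ih a ha
      obtain ⟨c, hc⟩ := exists_lin_approx σ e f hf hfe b hb
      refine ⟨pa * ∑ i, C (c i) * X i, ?_, ?_⟩
      · rw [pow_succ]
        exact Ideal.mul_mem_mul hpa (lin_mem_J c)
      · rw [map_mul, aeval_lin]
        have h1 : a * b - aeval f pa * ∑ i, c i • f i =
            (a - aeval f pa) * b + aeval f pa * (b - ∑ i, c i • f i) := by ring
        rw [h1]
        refine Ideal.add_mem _ ?_ ?_
        · rw [pow_succ]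
          exact Ideal.mul_mem_mul hpa' hb
        · have h2 : aeval f pa ∈ (kerI σ) ^ k := Jpow_le_comap σ f hf k hpa
          have h3 : (kerI σ) ^ (k + 1 + 1) = (kerI σ) ^ k * (kerI σ) ^ 2 := by
            rw [← pow_add]
          rw [h3]
          exact Ideal.mul_mem_mul h2 hc
    · rintro x y ⟨px, hpx, hpx'⟩ ⟨py, hpy, hpy'⟩
      refine ⟨px + py, Ideal.add_mem _ hpx hpy, ?_⟩
      rw [map_add]
      have : x + y - (aeval f px + aeval f py) = (x - aeval f px) + (y - aeval f py) := by ring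
      rw [this]
      exact Ideal.add_mem _ hpx' hpy'

include hfe in
lemma exists_approx (n : ℕ) (s : S) :
    ∃ p : MvPolynomial (Fin d) R, s - aeval f p ∈ (kerI σ) ^ n := by
  induction n with
  | zero => exact ⟨0, by simp⟩
  | succ n ih =>
    obtain ⟨p, hp⟩ := ih
    obtain ⟨q, _, hq⟩ := exists_approx_pow σ e f hf hfe n _ hp
    refine ⟨p + q, ?_⟩
    rw [map_add]
    have : s - (aeval f p + aeval f q) = s - aeval f p - aeval f q := by ring
    rw [this]
    exact hq

include hfe in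
theorem mem_Jpow_of_aeval_mem [Algebra.FormallySmooth R S] (n : ℕ)
    (p : MvPolynomial (Fin d) R) (h : aeval f p ∈ (kerI σ) ^ n) :
    p ∈ idealOfVars (Fin d) R ^ n := by
  obtain _ | _ | m := n
  · simp
  · rw [zero_add, pow_one] at h ⊢
    exact mem_J_of_aeval_mem σ f hf p h
  exact mem_pow_of_map_mem (idealOfVars (Fin d) R) (kerI σ) (aeval f) (Jpow_le_comap σ f hf)
    (m + 1 + 1) (by omega) (mem_J_of_aeval_mem σ f hf) (mem_Jsq_of_aeval_mem σ e f hf hfe)
    (exists_approx σ e f hf hfe (m + 1 + 1)) p h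

include hfe in
/-- the completion of `S` along the section is the completion of the polynomial ring. -/
theorem nonempty_completion_equiv [Algebra.FormallySmooth R S] :
    Nonempty (AdicCompletion (idealOfVars (Fin d) R) (MvPolynomial (Fin d) R) ≃ₐ[R]
      AdicCompletion (kerI σ) S) :=
  nonempty_algEquiv (idealOfVars (Fin d) R) (kerI σ) (aeval f) (Jpow_le_comap σ f hf)
    (exists_approx σ e f hf hfe) (mem_Jpow_of_aeval_mem σ e f hf hfe)

end

section

variable {R S : Type u} [CommRing R] [CommRing S] [Algebra R S]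

theorem main [Algebra.FormallySmooth R S] (σ : S →ₐ[R] R) (d : ℕ)
    (e : (RingHom.ker σ.toRingHom).Cotangent ≃ₗ[R] (Fin d → R)) :
    Nonempty (AdicCompletion (RingHom.ker σ.toRingHom) S ≃ₐ[R] MvPowerSeries (Fin d) R) := by
  have hch : ∀ i : Fin d, ∃ x : kerI σ, (kerI σ).toCotangent x = e.symm (Pi.single i 1) :=
    fun i => Ideal.toCotangent_surjective _ _
  choose x hx using hch
  obtain ⟨E⟩ := nonempty_completion_equiv σ e (fun i => (x i : S)) (fun i => (x i).2)
    (fun i => hx i)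
  exact ⟨E.symm.trans
    ((MvPowerSeries.toAdicCompletionAlgEquiv (Fin d) R).restrictScalars R).symm⟩

end

end Groth.Agent.H8.SmCompl
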